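-- ISO (S3044 + S3045) package PkgDict1: the dictionary from the K-facts in G to AFacts1 in Y / O_p(Y).
import Mathlib
import Cfsg.Agent.Lib.Helper22.Iso.Defs
import Cfsg.Agent.Lib.Helper4.CNSolv

set_option autoImplicit false

namespace Cfsg.Agent.Lib.Helper29.Iso

open Cfsg.Agent.Lib.Helper22.Iso

universe u

/-- **PkgDict1** -/
theorem pkgDict1 : PkgDict1.{u} := by
  intro G _ _ p _ S L Y T Q _ _ σ hC hK
  have hRY : ∀ y : ↥Y, y ∈ Cfsg.pCore p ↥Y → (y : G) ∈ Q := fun y hy => hK.RQ ⟨y, hy, rfl⟩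
  refine ⟨hK.SL, hK.QS, S.isPGroup', ?_, ?_, ?_, ?_, ?_, ?_, ?_, ?_⟩
  · -- LQ
    intro l hl q hq
    exact (Subgroup.mem_normalizer_iff.1 (hK.LQ hl) q).1 hq
  · -- Linv
    rintro l hl _ ⟨y, hy, rfl⟩
    rw [hC l y]
    refine ⟨MulAut.conjNormal l y, ?_, rfl⟩
    rw [SetLike.mem_coe, Subgroup.mem_subgroupOf, MulAut.conjNormal_apply]
    exact L.mul_mem (L.mul_mem hl (Subgroup.mem_subgroupOf.1 hy)) (L.inv_mem hl)
  · -- Tinv
    rintro s hs _ ⟨y, hy, rfl⟩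
    rw [hC s y]
    refine ⟨MulAut.conjNormal s y, ?_, rfl⟩
    rw [SetLike.mem_coe, Subgroup.mem_subgroupOf, MulAut.conjNormal_apply]
    exact (Subgroup.mem_normalizer_iff.1 (hK.ST hs) _).1 (Subgroup.mem_subgroupOf.1 hy)
  · -- LT
    have h1 : ((Y ⊓ L) ⊔ T).subgroupOf Y = ⊤ := Subgroup.subgroupOf_eq_top.2 hK.gen
    rw [Subgroup.subgroupOf_sup inf_le_left hK.TY, Subgroup.inf_subgroupOf_left] at h1
    show (L.subgroupOf Y).map _ ⊔ (T.subgroupOf Y).map _ = ⊤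
    rw [← Subgroup.map_sup, h1]
    exact Subgroup.map_top_of_surjective _ (QuotientGroup.mk'_surjective _)
  · -- Lne
    intro h
    apply hK.TQ
    have hYL : Y ≤ L := by
      intro y hy
      have h1 : QuotientGroup.mk' (Cfsg.pCore p ↥Y) ⟨y, hy⟩ ∈ push p Y L := by
        rw [h]
        exact Subgroup.mem_top _
      obtain ⟨y', hy', he⟩ := h1
      have h2 : y'⁻¹ * ⟨y, hy⟩ ∈ Cfsg.pCore p ↥Y := by
        rw [← QuotientGroup.eq]
        exact he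
      have h3 : ((y'⁻¹ * ⟨y, hy⟩ : ↥Y) : G) ∈ L := hK.SL (hK.QS (hRY _ h2))
      have h4 : (y' : G) ∈ L := Subgroup.mem_subgroupOf.1 hy'
      have e : y = (y' : G) * ((y'⁻¹ * ⟨y, hy⟩ : ↥Y) : G) := by simp
      rw [e]
      exact L.mul_mem h4 h3
    exact (hK.TY.trans hYL).trans hK.LQ
  · -- Tne
    intro h
    apply hK.TS
    intro t ht
    have h1 : QuotientGroup.mk' (Cfsg.pCore p ↥Y) ⟨t, hK.TY ht⟩ ∈ push p Y T :=
      ⟨⟨t, hK.TY ht⟩, Subgroup.mem_subgroupOf.2 ht, rfl⟩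
    rw [h, Subgroup.mem_bot] at h1
    have h2 : (⟨t, hK.TY ht⟩ : ↥Y) ∈ Cfsg.pCore p ↥Y := (QuotientGroup.eq_one_iff _).1 h1
    exact hK.QS (hRY _ h2)
  · -- nc
    intro h
    apply hK.TQ
    have key : ∀ y ∈ Y, ∀ q ∈ Q, y⁻¹ * q * y ∈ Q := by
      intro y hy q hq
      have h1 := h q hq (QuotientGroup.mk' _ ⟨y, hy⟩)
      rw [hC] at h1
      have h2 : (MulAut.conjNormal q (⟨y, hy⟩ : ↥Y))⁻¹ * ⟨y, hy⟩ ∈ Cfsg.pCore p ↥Y := by
        rw [← QuotientGroup.eq]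
        exact h1
      have h3 := hRY _ h2
      rw [Subgroup.coe_mul, Subgroup.coe_inv, MulAut.conjNormal_apply] at h3
      have h4 : q⁻¹ * ((q * y * q⁻¹)⁻¹ * y) ∈ Q := Q.mul_mem (Q.inv_mem hq) h3
      have e : y⁻¹ * q * y = (q⁻¹ * ((q * y * q⁻¹)⁻¹ * y))⁻¹ := by group
      rw [e]
      exact Q.inv_mem h4
    have hYN : Y ≤ Subgroup.normalizer (Q : Set G) := by
      intro y hy
      rw [Subgroup.mem_normalizer_iff]
      intro q
      constructor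
      · intro hq
        have := key y⁻¹ (Y.inv_mem hy) q hq
        rwa [inv_inv] at this
      · intro hq
        have := key y hy _ hq
        have e : y⁻¹ * (y * q * y⁻¹) * y = q := by group
        rwa [e] at this
    exact hK.TY.trans hYN
  · -- pcore
    exact Cfsg.Agent.Lib.Helper4.CN.pCore_quotient_eq_bot p (Cfsg.pCore p ↥Y) rfl

end Cfsg.Agent.Lib.Helper29.Iso
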