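-- ISO (S3044 + S3045) package PkgDict2: the dictionary from the K-facts in G to AFacts2 in Y / O_p(Y).
import Mathlib
import Cfsg.Agent.Lib.Helper22.Iso.Defs

set_option autoImplicit false

namespace Cfsg.Agent.Lib.Helper29.Iso

open Cfsg.Agent.Lib.Helper22.Iso
open scoped commutatorElement

universe u

/-- Membership in the full preimage. -/
theorem mem_pull_iff {G : Type u} [Group G] (p : ℕ) (Y : Subgroup G)
    [(Cfsg.pCore p ↥Y).Normal] (K : Subgroup (↥Y ⧸ Cfsg.pCore p ↥Y)) (g : G) :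
    g ∈ pull p Y K ↔ ∃ h : g ∈ Y, QuotientGroup.mk' (Cfsg.pCore p ↥Y) ⟨g, h⟩ ∈ K := by
  constructor
  · rintro ⟨z, hz, rfl⟩
    exact ⟨z.2, hz⟩
  · rintro ⟨h, hg⟩
    exact ⟨⟨g, h⟩, hg, rfl⟩

/-- **PkgDict2** -/
theorem pkgDict2 : PkgDict2.{u} := by
  intro G _ _ p _ S L Y T Q _ _ σ hC hK
  refine ⟨?_, ?_⟩
  · -- key
    intro Nb hNb hinv hne
    have hNY : pull p Y Nb ≤ Y := Subgroup.map_subtype_le _
    -- conjugation by elements of `Y` and of `L`
    have hcY : ∀ y ∈ Y, ∀ n ∈ pull p Y Nb, y * n * y⁻¹ ∈ pull p Y Nb := by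
      intro y hy n hn
      obtain ⟨hnY, hn'⟩ := (mem_pull_iff p Y Nb n).1 hn
      refine (mem_pull_iff p Y Nb _).2 ⟨Y.mul_mem (Y.mul_mem hy hnY) (Y.inv_mem hy), ?_⟩
      have e : (⟨y * n * y⁻¹, Y.mul_mem (Y.mul_mem hy hnY) (Y.inv_mem hy)⟩ : ↥Y) =
          ⟨y, hy⟩ * ⟨n, hnY⟩ * (⟨y, hy⟩ : ↥Y)⁻¹ := rfl
      rw [e, map_mul, map_mul, map_inv]
      exact hNb.conj_mem _ hn' _
    have hcL : ∀ l ∈ L, ∀ n ∈ pull p Y Nb, l * n * l⁻¹ ∈ pull p Y Nb := by
      intro l hl n hn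
      obtain ⟨hnY, hn'⟩ := (mem_pull_iff p Y Nb n).1 hn
      have hmem : l * n * l⁻¹ ∈ Y := by
        have := (MulAut.conjNormal l (⟨n, hnY⟩ : ↥Y)).2
        rwa [MulAut.conjNormal_apply] at this
      refine (mem_pull_iff p Y Nb _).2 ⟨hmem, ?_⟩
      have e : (⟨l * n * l⁻¹, hmem⟩ : ↥Y) = MulAut.conjNormal l (⟨n, hnY⟩ : ↥Y) :=
        Subtype.ext (by rw [MulAut.conjNormal_apply])
      rw [e, ← hC l]
      exact hinv l hl _ hn'
    have hnorm : Y ⊔ L ≤ Subgroup.normalizer ((pull p Y Nb : Subgroup G) : Set G) := by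
      refine sup_le ?_ ?_
      · intro y hy
        rw [Subgroup.mem_normalizer_iff]
        intro n
        refine ⟨hcY y hy n, fun h => ?_⟩
        have := hcY y⁻¹ (Y.inv_mem hy) _ h
        have e : y⁻¹ * (y * n * y⁻¹) * y⁻¹⁻¹ = n := by group
        rwa [e] at this
      · intro l hl
        rw [Subgroup.mem_normalizer_iff]
        intro n
        refine ⟨hcL l hl n, fun h => ?_⟩
        have := hcL l⁻¹ (L.inv_mem hl) _ h
        have e : l⁻¹ * (l * n * l⁻¹) * l⁻¹⁻¹ = n := by group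
        rwa [e] at this
    have hN : (pull p Y Nb).Normal := by
      refine ⟨fun n hn g => ?_⟩
      have hg : g ∈ Subgroup.normalizer ((pull p Y Nb : Subgroup G) : Set G) :=
        hnorm (by rw [hK.YL]; exact Subgroup.mem_top g)
      exact (Subgroup.mem_normalizer_iff.1 hg n).1 hn
    have hNne : pull p Y Nb ≠ Y := by
      intro h
      apply hne
      rw [eq_top_iff]
      intro x _
      obtain ⟨y, rfl⟩ := QuotientGroup.mk'_surjective (Cfsg.pCore p ↥Y) x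
      have hy : (y : G) ∈ pull p Y Nb := by rw [h]; exact y.2
      obtain ⟨_, hy'⟩ := (mem_pull_iff p Y Nb _).1 hy
      exact hy'
    obtain ⟨hNL, hcomm⟩ := hK.key (pull p Y Nb) hN hNY hNne
    refine ⟨?_, ?_⟩
    · intro x hx
      rw [Subgroup.mem_center_iff]
      intro w
      obtain ⟨z, rfl⟩ := QuotientGroup.mk'_surjective (Cfsg.pCore p ↥Y) x
      obtain ⟨y, rfl⟩ := QuotientGroup.mk'_surjective (Cfsg.pCore p ↥Y) w
      have hz : (z : G) ∈ pull p Y Nb := (mem_pull_iff p Y Nb _).2 ⟨z.2, hx⟩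
      have h1 : ⁅(z : G), (y : G)⁆ ∈ opOf p Y :=
        hcomm (Subgroup.commutator_mem_commutator hz y.2)
      obtain ⟨r, hr, hre⟩ := h1
      have h2 : r = ⁅z, y⁆ := by
        apply Subtype.ext
        have h3 : (r : G) = ⁅(z : G), (y : G)⁆ := hre
        rw [h3]
        simp [commutatorElement_def]
      rw [h2] at hr
      -- `z * y * z⁻¹ * y⁻¹ ∈ O_p(Y)` gives `π (y * z) = π (z * y)`
      rw [← map_mul, ← map_mul]
      apply (QuotientGroup.eq).2
      have hc := (inferInstance : (Cfsg.pCore p ↥Y).Normal).conj_mem _ hr (y * z)⁻¹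
      have e : (y * z)⁻¹ * (z * y) = (y * z)⁻¹ * ⁅z, y⁆ * (y * z)⁻¹⁻¹ := by
        rw [commutatorElement_def]
        group
      rw [e]
      exact hc
    · intro x hx
      obtain ⟨z, rfl⟩ := QuotientGroup.mk'_surjective (Cfsg.pCore p ↥Y) x
      have hz : (z : G) ∈ pull p Y Nb := (mem_pull_iff p Y Nb _).2 ⟨z.2, hx⟩
      exact ⟨z, Subgroup.mem_subgroupOf.2 (hNL hz), rfl⟩
  · -- Tnc
    intro hT a b
    have hN : (pull p Y (Subgroup.center (↥Y ⧸ Cfsg.pCore p ↥Y))).Normal := by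
      refine ⟨fun n hn g => ?_⟩
      obtain ⟨hnY, hn'⟩ := (mem_pull_iff p Y _ n).1 hn
      have hmem : g * n * g⁻¹ ∈ Y := by
        have := (MulAut.conjNormal g (⟨n, hnY⟩ : ↥Y)).2
        rwa [MulAut.conjNormal_apply] at this
      refine (mem_pull_iff p Y _ _).2 ⟨hmem, ?_⟩
      have e : (⟨g * n * g⁻¹, hmem⟩ : ↥Y) = MulAut.conjNormal g (⟨n, hnY⟩ : ↥Y) :=
        Subtype.ext (by rw [MulAut.conjNormal_apply])
      rw [e, ← hC g, Subgroup.mem_center_iff]
      intro w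
      rw [Subgroup.mem_center_iff] at hn'
      have h1 := hn' ((σ g).symm w)
      have h2 := congrArg (σ g) h1
      simpa using h2
    have hTN : T ≤ pull p Y (Subgroup.center (↥Y ⧸ Cfsg.pCore p ↥Y)) := by
      intro t ht
      exact (mem_pull_iff p Y _ t).2 ⟨hK.TY ht,
        hT ⟨⟨t, hK.TY ht⟩, Subgroup.mem_subgroupOf.2 ht, rfl⟩⟩
    have hYN := hK.ncl _ hN hTN
    obtain ⟨y, rfl⟩ := QuotientGroup.mk'_surjective (Cfsg.pCore p ↥Y) b
    obtain ⟨_, hy'⟩ := (mem_pull_iff p Y _ _).1 (hYN y.2)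
    rw [Subgroup.mem_center_iff] at hy'
    exact hy' a

end Cfsg.Agent.Lib.Helper29.Iso
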